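import Mathlib
set_option linter.all false

/-!
# Groups of order `p m` with a self-centralising element of order `p`

`H` finite, `p` prime, `|H| = p m`, `p ∤ m`, `x` an element with `|C_H(x)| = p`.
* `modEq`: a Sylow subgroup of a normal `p'`-subgroup has order congruent to `1` modulo `p`;
* `exists_e`: `|N_H(P)| = p e` with `e ∣ p - 1` and `m ≡ e` modulo `p`, `m = n_p e`;
* `eq_top`: if `e` is prime and there is no nontrivial normal `p'`-subgroup, then a nontrivial
  normal subgroup is the whole group.
-/

set_option autoImplicit false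
set_option linter.unusedSectionVars false

namespace Cfsg.Agent.H361.SelfCent

open Subgroup

/-- The situation. -/
structure Sit (H : Type*) [Group H] (p m : ℕ) (x : H) : Prop where
  prime : p.Prime
  card : Nat.card H = p * m
  ndvd : ¬ p ∣ m
  cent : Nat.card (centralizer ({x} : Set H)) = p

variable {H : Type*} [Group H] [Finite H] {p m : ℕ} {x : H}

namespace Sit

theorem m_pos (h : Sit H p m x) : 0 < m := by
  rcases Nat.eq_zero_or_pos m with h0 | h0
  · exact absurd (h0 ▸ dvd_zero p) h.ndvd
  · exact h0

theorem orderOf_dvd (h : Sit H p m x) : orderOf x ∣ p := by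
  rw [← h.cent]
  have := Subgroup.orderOf_dvd_natCard (centralizer ({x} : Set H))
    (x := x) (mem_centralizer_singleton_iff.2 rfl)
  exact this

theorem mem_self (x : H) : x ∈ centralizer ({x} : Set H) := mem_centralizer_singleton_iff.2 rfl

theorem orderOf_eq (h : Sit H p m x) (hm : m ≠ 1) : orderOf x = p := by
  rcases (Nat.dvd_prime h.prime).1 h.orderOf_dvd with h1 | h1
  · exfalso
    have hx : x = 1 := orderOf_eq_one_iff.1 h1
    have h2 := h.cent
    have h3 : centralizer ({x} : Set H) = ⊤ := by
      rw [hx, eq_top_iff]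
      intro y _
      exact mem_centralizer_singleton_iff.2 (by simp)
    rw [h3, Nat.card_congr Subgroup.topEquiv.toEquiv, h.card] at h2
    have := h.prime.pos
    have h4 : m = 1 := by
      have : p * m = p * 1 := by omega
      exact Nat.eq_of_mul_eq_mul_left ‹0 < p› this
    exact hm h4
  · exact h1

theorem cent_eq (h : Sit H p m x) (hm : m ≠ 1) : centralizer ({x} : Set H) = zpowers x := by
  symm
  apply Subgroup.eq_of_le_of_card_ge
  · rw [zpowers_le]
    exact mem_self x
  · rw [h.cent, Nat.card_zpowers, h.orderOf_eq hm]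

/-- The Sylow `p`-subgroups have order `p`. -/
theorem card_sylow (h : Sit H p m x) (P : Sylow p H) : Nat.card P = p := by
  have hp : Fact p.Prime := ⟨h.prime⟩
  rw [P.card_eq_multiplicity, h.card, Nat.factorization_mul h.prime.ne_zero h.m_pos.ne',
    Finsupp.add_apply, Nat.factorization_eq_zero_of_not_dvd h.ndvd, add_zero,
    h.prime.factorization_self, pow_one]

/-- every element of order `p` is conjugate to a generator of `zpowers x`, hence its centraliser
has order `p`. -/
theorem cent_of_orderOf (h : Sit H p m x) (hm : m ≠ 1) {y : H} (hy : orderOf y = p) :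
    Sit H p m y := by
  have hp : Fact p.Prime := ⟨h.prime⟩
  refine ⟨h.prime, h.card, h.ndvd, ?_⟩
  -- Sylow subgroups
  have hx := h.orderOf_eq hm
  have hPx : IsPGroup p (zpowers x) := IsPGroup.of_card (n := 1) (by rw [Nat.card_zpowers, hx, pow_one])
  have hPy : IsPGroup p (zpowers y) := IsPGroup.of_card (n := 1) (by rw [Nat.card_zpowers, hy, pow_one])
  obtain ⟨P, hP⟩ := hPx.exists_le_sylow
  obtain ⟨Q, hQ⟩ := hPy.exists_le_sylow
  have hPe : zpowers x = P := by
    apply Subgroup.eq_of_le_of_card_ge hP
    rw [h.card_sylow P, Nat.card_zpowers, hx]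
  have hQe : zpowers y = Q := by
    apply Subgroup.eq_of_le_of_card_ge hQ
    rw [h.card_sylow Q, Nat.card_zpowers, hy]
  obtain ⟨g, hg⟩ := MulAction.exists_smul_eq H P Q
  -- y = g z g⁻¹ with z ∈ zpowers x
  have h1 : y ∈ ((g • P : Sylow p H) : Subgroup H) := by rw [hg, ← hQe]; exact mem_zpowers y
  have h2 : g⁻¹ * y * g ∈ zpowers x := by
    rw [hPe]
    have h3 : y ∈ ((g • P : Sylow p H) : Subgroup H) := h1
    rw [Sylow.coe_subgroup_smul, Subgroup.mem_pointwise_smul_iff_inv_smul_mem] at h3
    simpa [MulAut.smul_def, MulAut.conj_apply] using h3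
  obtain ⟨k, hk⟩ := mem_zpowers_iff.1 h2
  set z := g⁻¹ * y * g with hz
  have hoz : orderOf z = p := by
    rw [hz, ← hy]
    have : g⁻¹ * y * g = MulAut.conj g⁻¹ y := by simp
    rw [this]
    exact orderOf_injective (MulAut.conj g⁻¹).toMonoidHom (MulAut.conj g⁻¹).injective y
  have hzz : zpowers z = zpowers x := by
    apply Subgroup.eq_of_le_of_card_ge
    · rw [zpowers_le]; exact h2
    · rw [Nat.card_zpowers, Nat.card_zpowers, hoz, hx]
  have hcz : centralizer ({z} : Set H) = centralizer ({x} : Set H) := by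
    have e1 : ∀ w : H, centralizer ({w} : Set H) = centralizer ((zpowers w : Subgroup H) : Set H) := by
      intro w
      rw [zpowers_eq_closure, centralizer_closure]
    rw [e1, e1, hzz]
  have hcy : Nat.card (centralizer ({y} : Set H)) = Nat.card (centralizer ({z} : Set H)) := by
    refine Nat.card_congr
      { toFun := fun w => ⟨g⁻¹ * w * g, ?_⟩
        invFun := fun w => ⟨g * w * g⁻¹, ?_⟩
        left_inv := fun w => Subtype.ext (by simp [mul_assoc])
        right_inv := fun w => Subtype.ext (by simp [mul_assoc]) }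
    · have := mem_centralizer_singleton_iff.1 w.2
      rw [mem_centralizer_singleton_iff, hz]
      calc (g⁻¹ * w * g) * (g⁻¹ * y * g) = g⁻¹ * (w * y) * g := by group
        _ = g⁻¹ * (y * w) * g := by rw [this]
        _ = _ := by group
    · have h5 : (w : H) * z = z * w := mem_centralizer_singleton_iff.1 w.2
      rw [mem_centralizer_singleton_iff]
      have h6 : y = g * z * g⁻¹ := by rw [hz]; group
      rw [h6]
      calc (g * (w : H) * g⁻¹) * (g * z * g⁻¹) = g * (w * z) * g⁻¹ := by group
        _ = g * (z * w) * g⁻¹ := by rw [h5]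
        _ = _ := by group
  rw [hcy, hcz, h.cent]

end Sit

/-- fixed points of an element of order `p` on a finite set, modulo `p`. -/
theorem card_modEq_of_perm {α : Type*} [Finite α] {p : ℕ} (hp : p.Prime) (f : Equiv.Perm α)
    (hf : f ^ p = 1) : Nat.card α ≡ Nat.card {a : α // f a = a} [MOD p] := by
  classical
  have := Fintype.ofFinite α
  have hp' : Fact p.Prime := ⟨hp⟩
  have h1 : IsPGroup p (zpowers f) := by
    intro ⟨g, hg⟩
    obtain ⟨k, rfl⟩ := mem_zpowers_iff.1 hg
    refine ⟨1, Subtype.ext ?_⟩
    show (f ^ k) ^ (p ^ 1) = 1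
    rw [pow_one, ← zpow_natCast, ← zpow_mul, mul_comm, zpow_mul, zpow_natCast, hf, one_zpow]
  have h2 := h1.card_modEq_card_fixedPoints α
  refine h2.trans (Nat.ModEq.symm ?_)
  have : Nat.card (MulAction.fixedPoints (zpowers f) α) = Nat.card {a : α // f a = a} := by
    refine Nat.card_congr (Equiv.subtypeEquivRight fun a => ?_)
    rw [MulAction.mem_fixedPoints]
    constructor
    · intro h
      exact h ⟨f, mem_zpowers f⟩
    · rintro h ⟨g, hg⟩
      obtain ⟨k, rfl⟩ := mem_zpowers_iff.1 hg
      show (f ^ k) a = a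
      exact Equiv.Perm.zpow_apply_eq_self_of_apply_eq_self h k
  rw [this]

namespace Sit

/-- Sylow subgroups of normal `p'`-subgroups. -/
theorem modEq (h : Sit H p m x) (hm : m ≠ 1) (N : Subgroup H) [hN : N.Normal]
    (hpN : ¬ p ∣ Nat.card N) {r : ℕ} (hr : r.Prime) (R : Sylow r N) :
    Nat.card R ≡ 1 [MOD p] := by
  have hp : Fact p.Prime := ⟨h.prime⟩
  have hr' : Fact r.Prime := ⟨hr⟩
  by_cases hrN : r ∣ Nat.card N
  swap
  · have : Nat.card R = 1 := by
      rw [R.card_eq_multiplicity, Nat.factorization_eq_zero_of_not_dvd hrN, pow_zero]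
    rw [this]
  have hrp : r ≠ p := fun e => hpN (e ▸ hrN)
  have hfr := Sylow.normalizer_sup_eq_top R
  set R' : Subgroup H := (R : Subgroup N).map N.subtype with hR'
  -- p divides the order of the normaliser of R'
  have h1 : p ∣ Nat.card (normalizer (R' : Set H)) := by
    by_contra hno
    have h2 : Nat.card H ∣ Nat.card (normalizer (R' : Set H)) * Nat.card N := by
      have h3 : N.relIndex (normalizer (R' : Set H) ⊔ N) = N.relIndex (normalizer (R' : Set H)) :=
        Subgroup.relIndex_sup_right _ _
      rw [hfr, Subgroup.relIndex_top_right] at h3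
      rw [← N.card_mul_index, h3, mul_comm]
      exact Nat.mul_dvd_mul_right (Subgroup.relIndex_dvd_card _ _) _
    have h4 : p ∣ Nat.card (normalizer (R' : Set H)) * Nat.card N :=
      dvd_trans (by rw [h.card]; exact dvd_mul_right _ _) h2
    rcases (Nat.Prime.dvd_mul h.prime).1 h4 with h5 | h5
    · exact hno h5
    · exact hpN h5
  obtain ⟨⟨y, hyN⟩, hy⟩ := exists_prime_orderOf_dvd_card' p h1
  have hy' : orderOf y = p := by
    rw [← hy]
    exact (Subgroup.orderOf_mk y hyN).symm
  have hSy := h.cent_of_orderOf hm hy'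
  -- conjugation by y
  have hconj : ∀ w : H, w ∈ R' ↔ y * w * y⁻¹ ∈ R' := mem_normalizer_iff.1 hyN
  let f : Equiv.Perm R' :=
    { toFun := fun w => ⟨y * w * y⁻¹, (hconj w).1 w.2⟩
      invFun := fun w => ⟨y⁻¹ * w * y, (hconj _).2 (by simp [mul_assoc])⟩
      left_inv := fun w => Subtype.ext (by simp [mul_assoc])
      right_inv := fun w => Subtype.ext (by simp [mul_assoc]) }
  have hfk : ∀ k : ℕ, ∀ w : R', (((f ^ k) w : R') : H) = y ^ k * w * (y ^ k)⁻¹ := by
    intro k
    induction k with
    | zero => intro w; simp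
    | succ k ih =>
      intro w
      rw [pow_succ', Equiv.Perm.mul_apply]
      show y * ((f ^ k) w : R') * y⁻¹ = _
      rw [ih, pow_succ']
      group
  have hf : f ^ p = 1 := by
    ext w
    rw [hfk, ← hy', pow_orderOf_eq_one]
    simp
  have h6 := card_modEq_of_perm h.prime f hf
  have h7 : Nat.card {a : R' // f a = a} = 1 := by
    have : ∀ a : R', f a = a → a = 1 := by
      intro a ha
      have h8 : (a : H) ∈ centralizer ({y} : Set H) := by
        rw [mem_centralizer_singleton_iff]
        have h9 : y * (a : H) * y⁻¹ = a := congrArg Subtype.val ha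
        calc (a : H) * y = (y * (a : H) * y⁻¹) * y := by rw [h9]
          _ = y * a := by group
      have h9 : orderOf (a : H) ∣ p := by
        rw [← hSy.cent]
        exact Subgroup.orderOf_dvd_natCard _ h8
      have h10 : orderOf (a : H) ∣ Nat.card R' := Subgroup.orderOf_dvd_natCard _ a.2
      have h11 : Nat.Coprime p (Nat.card R') := by
        rw [hR', Subgroup.card_map_of_injective N.subtype_injective]
        obtain ⟨k, hk⟩ := IsPGroup.iff_card.1 R.isPGroup'
        rw [hk]
        exact Nat.Coprime.pow_right _ ((Nat.coprime_primes h.prime hr).2 hrp.symm)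
      have h12 : orderOf (a : H) = 1 := Nat.eq_one_of_dvd_coprimes h11 h9 h10
      exact Subtype.ext (orderOf_eq_one_iff.1 h12)
    rw [Nat.card_eq_one_iff_unique]
    refine ⟨⟨fun a b => ?_⟩, ⟨⟨1, Subtype.ext (by show y * (1 : H) * y⁻¹ = 1; simp)⟩⟩⟩
    exact Subtype.ext ((this a.1 a.2).trans (this b.1 b.2).symm)
  rw [h7] at h6
  have h13 : Nat.card R = Nat.card R' := by
    rw [hR', Subgroup.card_map_of_injective N.subtype_injective]
  rw [h13]
  exact h6

/-- The order of the normaliser of `zpowers x`. -/
theorem card_norm (h : Sit H p m x) (hm : m ≠ 1) :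
    ∃ e, e ∣ p - 1 ∧ Nat.card (normalizer ((zpowers x : Subgroup H) : Set H)) = p * e := by
  set N := normalizer ((zpowers x : Subgroup H) : Set H) with hN
  let φ : N →* MulAut (zpowers x) := normalizerMonoidHom (zpowers x)
  refine ⟨Nat.card φ.range, ?_, ?_⟩
  · have h1 : Nat.card φ.range ∣ Nat.card (MulAut (zpowers x)) := Subgroup.card_subgroup_dvd_card _
    have h2 : Nat.card (MulAut (zpowers x)) = Nat.totient (Nat.card (zpowers x)) :=
      IsCyclic.card_mulAut _
    rw [h2, Nat.card_zpowers, h.orderOf_eq hm, Nat.totient_prime h.prime] at h1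
    exact h1
  · have h3 : Nat.card φ.ker = p := by
      have h4 : φ.ker = (centralizer ((zpowers x : Subgroup H) : Set H)).subgroupOf N :=
        normalizerMonoidHom_ker _
      have h5 : centralizer ((zpowers x : Subgroup H) : Set H) = centralizer ({x} : Set H) := by
        rw [zpowers_eq_closure, centralizer_closure]
      have h6 : centralizer ({x} : Set H) ≤ N := by
        rw [h.cent_eq hm]
        exact Subgroup.le_normalizer
      rw [h4, h5, Nat.card_congr (Subgroup.subgroupOfEquivOfLe h6).toEquiv, h.cent]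
    have h7 := Subgroup.card_mul_index φ.ker
    rw [Subgroup.index_ker, h3] at h7
    exact h7.symm

/-- The number of Sylow subgroups. -/
theorem card_sylow_mul (h : Sit H p m x) (hm : m ≠ 1) {e : ℕ}
    (he : Nat.card (normalizer ((zpowers x : Subgroup H) : Set H)) = p * e) :
    Nat.card (Sylow p H) * e = m := by
  have hp : Fact p.Prime := ⟨h.prime⟩
  have hx := h.orderOf_eq hm
  have hPx : IsPGroup p (zpowers x) :=
    IsPGroup.of_card (n := 1) (by rw [Nat.card_zpowers, hx, pow_one])
  obtain ⟨P, hP⟩ := hPx.exists_le_sylow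
  have hPe : zpowers x = P := by
    apply Subgroup.eq_of_le_of_card_ge hP
    rw [h.card_sylow P, Nat.card_zpowers, hx]
  have h1 : Nat.card (Sylow p H) = (normalizer ((P : Subgroup H) : Set H)).index :=
    P.card_eq_index_normalizer
  rw [← hPe] at h1
  have h2 := Subgroup.card_mul_index (normalizer ((zpowers x : Subgroup H) : Set H))
  rw [← h1, he, h.card] at h2
  have h3 : p * (Nat.card (Sylow p H) * e) = p * m := by rw [← h2]; ring
  exact Nat.eq_of_mul_eq_mul_left h.prime.pos h3

theorem card_norm_of (h : Sit H p m x) (hm : m ≠ 1) {n e : ℕ} (hn : Nat.card (Sylow p H) = n)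
    (hne : n * e = m) : Nat.card (normalizer ((zpowers x : Subgroup H) : Set H)) = p * e := by
  obtain ⟨e', -, he'⟩ := h.card_norm hm
  have h1 := h.card_sylow_mul hm he'
  have hn0 : 0 < n := by
    rw [← hn]
    have hp : Fact p.Prime := ⟨h.prime⟩
    exact Nat.card_pos
  have : e' = e := by
    apply Nat.eq_of_mul_eq_mul_left hn0
    rw [hne, ← h1, hn]
  rw [he', this]

theorem card_sylow_eq (h : Sit H p m x) (hm : m ≠ 1) :
    ∃ e, e ∣ p - 1 ∧ Nat.card (Sylow p H) * e = m ∧ Nat.card (Sylow p H) ≡ 1 [MOD p] := by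
  have hp : Fact p.Prime := ⟨h.prime⟩
  obtain ⟨e, he, h1⟩ := h.card_norm hm
  exact ⟨e, he, h.card_sylow_mul hm h1, card_sylow_modEq_one p H⟩

/-- A normal subgroup of order divisible by `p` is the whole group. -/
theorem eq_top (h : Sit H p m x) (hm : m ≠ 1) {n e : ℕ} (hn : Nat.card (Sylow p H) = n)
    (hne : n * e = m) (he : e.Prime) (hn1 : n ≠ 1)
    (htriv : ∀ K : Subgroup H, K.Normal → ¬ p ∣ Nat.card K → K = ⊥)
    (N : Subgroup H) [hN : N.Normal] (hpN : p ∣ Nat.card N) : N = ⊤ := by
  have hp : Fact p.Prime := ⟨h.prime⟩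
  obtain ⟨y, hy⟩ := exists_prime_orderOf_dvd_card' p hpN
  have hy' : orderOf (y : H) = p := by rw [Subgroup.orderOf_coe, hy]
  have hS := h.cent_of_orderOf hm hy'
  have hPy : IsPGroup p (zpowers y) :=
    IsPGroup.of_card (n := 1) (by rw [Nat.card_zpowers, hy, pow_one])
  obtain ⟨P, hP⟩ := hPy.exists_le_sylow
  have hPc : Nat.card P = p := by
    obtain ⟨k, hk⟩ := IsPGroup.iff_card.1 P.isPGroup'
    have h1 : Nat.card P ∣ p * m := by
      rw [← h.card]
      exact dvd_trans (Subgroup.card_subgroup_dvd_card _) (Subgroup.card_subgroup_dvd_card _)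
    have h2 : p ∣ Nat.card P := by
      have h3 := Subgroup.card_dvd_of_le hP
      rwa [Nat.card_zpowers, hy] at h3
    have hk1 : k ≤ 1 := by
      by_contra hk2
      apply h.ndvd
      have h3 : p ^ 2 ∣ Nat.card P := by rw [hk]; exact pow_dvd_pow p (by omega)
      have h4 : p * p ∣ p * m := by rw [← pow_two]; exact dvd_trans h3 h1
      exact Nat.dvd_of_mul_dvd_mul_left h.prime.pos h4
    have hk0 : k ≠ 0 := by
      rintro rfl
      rw [hk, pow_zero] at h2
      exact h.prime.one_lt.ne' (Nat.dvd_one.1 h2)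
    have : k = 1 := by omega
    rw [hk, this, pow_one]
  have hPe : zpowers y = P := by
    apply Subgroup.eq_of_le_of_card_ge hP
    rw [hPc, Nat.card_zpowers, hy]
  have hmap : (P : Subgroup N).map N.subtype = zpowers (y : H) := by
    rw [← hPe, MonoidHom.map_zpowers]
    rfl
  have hcy := hS.cent_eq hm
  have hnorm := hS.card_norm_of hm hn hne
  have hfr := Sylow.normalizer_sup_eq_top P
  rw [hmap] at hfr
  by_cases hcase : normalizer ((P : Subgroup N) : Set N) ≤ centralizer ((P : Subgroup N) : Set N)
  · -- Burnside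
    exfalso
    set τ := MonoidHom.transferSylow P hcase with hτ
    have h1 : ¬ p ∣ Nat.card τ.ker := MonoidHom.not_dvd_card_ker_transferSylow P hcase
    have h2 := MonoidHom.ker_transferSylow_isComplement' P hcase
    have hker : ∀ w : N, w ∈ τ.ker ↔ ¬ p ∣ orderOf w := by
      intro w
      constructor
      · intro hw hpw
        exact h1 (dvd_trans hpw (Subgroup.orderOf_dvd_natCard _ hw))
      · intro hw
        rw [MonoidHom.mem_ker]
        have h3 : orderOf (τ w) ∣ orderOf w := orderOf_map_dvd τ w
        have h4 : orderOf (τ w) ∣ p := by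
          have h5 := orderOf_dvd_natCard (τ w)
          rwa [hPc] at h5
        rcases (Nat.dvd_prime h.prime).1 h4 with h5 | h5
        · exact orderOf_eq_one_iff.1 h5
        · exact absurd (h5 ▸ h3) hw
    have hnormal : (τ.ker.map N.subtype).Normal := by
      refine ⟨?_⟩
      rintro w hw g
      obtain ⟨w, hw, rfl⟩ := hw
      refine ⟨⟨g * w * g⁻¹, hN.conj_mem w w.2 g⟩, ?_, rfl⟩
      have hw' := (hker w).1 hw
      refine (hker _).2 ?_
      have h5 : orderOf (⟨g * w * g⁻¹, hN.conj_mem w w.2 g⟩ : N) = orderOf w := by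
        rw [← Subgroup.orderOf_coe, ← Subgroup.orderOf_coe w]
        exact orderOf_injective (MulAut.conj g).toMonoidHom (MulAut.conj g).injective (w : H)
      rw [h5]
      exact hw'
    have h6 := htriv _ hnormal (by rwa [Subgroup.card_map_of_injective N.subtype_injective])
    have h7 : τ.ker = ⊥ := (Subgroup.map_eq_bot_iff_of_injective _ N.subtype_injective).1 h6
    have h8 : Nat.card N = p := by
      have := h2.card_mul_card
      rw [h7, Subgroup.card_bot, one_mul, hPc] at this
      exact this.symm
    have h9 : N = zpowers (y : H) := by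
      symm
      apply Subgroup.eq_of_le_of_card_ge
      · rw [zpowers_le]; exact y.2
      · rw [h8, Nat.card_zpowers, hy']
    have h10 : Nat.card (normalizer ((zpowers (y : H) : Subgroup H) : Set H)) = Nat.card H := by
      rw [← h9, Subgroup.normalizer_eq_top, Subgroup.card_top]
    rw [hnorm, h.card, ← hne] at h10
    have h11 : n * (p * e) = 1 * (p * e) := by
      rw [one_mul]
      exact (by ring : n * (p * e) = p * (n * e)).trans h10.symm
    exact hn1 (Nat.eq_of_mul_eq_mul_right (Nat.mul_pos h.prime.pos he.pos) h11)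
  · -- the normaliser is in N
    obtain ⟨g, hg, hgc⟩ := SetLike.not_le_iff_exists.1 hcase
    set M := normalizer ((zpowers (y : H) : Subgroup H) : Set H) with hM
    have hgM : (g : H) ∈ M := by
      rw [hM, ← hmap]
      rw [mem_normalizer_iff] at hg ⊢
      intro w
      constructor
      · rintro ⟨w, hw, rfl⟩
        exact ⟨g * w * g⁻¹, (hg w).1 hw, rfl⟩
      · rintro ⟨w', hw', hw''⟩
        have hwN : w ∈ N := by
          have h12 : (g : H) * w * (g : H)⁻¹ ∈ N := by
            rw [← hw'']
            exact w'.2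
          have h13 := N.mul_mem (N.mul_mem (N.inv_mem g.2) h12) g.2
          simpa [mul_assoc] using h13
        refine ⟨⟨w, hwN⟩, (hg _).2 ?_, rfl⟩
        have : g * (⟨w, hwN⟩ : N) * g⁻¹ = w' := Subtype.ext hw''.symm
        rw [this]
        exact hw'
    have hzM : zpowers (y : H) ≤ M ⊓ N := by
      refine le_inf Subgroup.le_normalizer ?_
      rw [zpowers_le]; exact y.2
    have h1 : Nat.card (M ⊓ N : Subgroup H) ∣ p * e := by
      rw [← hnorm]
      exact Subgroup.card_dvd_of_le inf_le_left
    have h2 : p ∣ Nat.card (M ⊓ N : Subgroup H) := by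
      have := Subgroup.card_dvd_of_le hzM
      rwa [Nat.card_zpowers, hy'] at this
    obtain ⟨d, hd⟩ := h2
    have h3 : d ∣ e := by
      rw [hd] at h1
      exact Nat.dvd_of_mul_dvd_mul_left h.prime.pos h1
    have h4 : M ≤ N := by
      rcases (Nat.dvd_prime he).1 h3 with h5 | h5
      · exfalso
        have h6 : zpowers (y : H) = M ⊓ N := by
          apply Subgroup.eq_of_le_of_card_ge hzM
          rw [hd, h5, mul_one, Nat.card_zpowers, hy']
        have h7 : (g : H) ∈ zpowers (y : H) := by rw [h6]; exact ⟨hgM, g.2⟩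
        apply hgc
        rw [mem_centralizer_iff]
        intro w hw
        have hw' : w ∈ zpowers y := by rw [hPe]; exact hw
        have hg' : g ∈ zpowers y := by
          obtain ⟨k, hk⟩ := mem_zpowers_iff.1 h7
          exact mem_zpowers_iff.2 ⟨k, Subtype.ext (by push_cast; exact hk)⟩
        obtain ⟨k, rfl⟩ := mem_zpowers_iff.1 hw'
        obtain ⟨l, rfl⟩ := mem_zpowers_iff.1 hg'
        exact (Commute.refl y).zpow_zpow k l
      · have h6 : M ⊓ N = M := by
          apply Subgroup.eq_of_le_of_card_ge inf_le_left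
          rw [hd, h5, hnorm]
        exact inf_eq_left.1 h6
    rw [← hfr]
    symm
    exact sup_eq_right.2 h4

/-- If a normal subgroup `N` of order prime to `p` exists with `|H / N| = p k` where the only divisor of
`k` congruent to `1` modulo `p` is `1`, then the number of Sylow `p`-subgroups is at most `|N|`. -/
theorem card_sylow_le (h : Sit H p m x) {N : Subgroup H} [hN : N.Normal] {k : ℕ}
    (hidx : N.index = p * k)
    (hk : ∀ d, d ∣ k → d ≡ 1 [MOD p] → d = 1) :
    Nat.card (Sylow p H) ≤ Nat.card N := by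
  have hp : Fact p.Prime := ⟨h.prime⟩
  have hNm : Nat.card N * k = m := by
    have h1 := N.card_mul_index
    rw [hidx, h.card] at h1
    have : p * (Nat.card N * k) = p * m := by rw [← h1]; ring
    exact Nat.eq_of_mul_eq_mul_left h.prime.pos this
  have hkp : ¬ p ∣ k := fun hd => h.ndvd (hNm ▸ Dvd.dvd.mul_left hd _)
  -- the Sylow subgroup of the quotient
  obtain ⟨P⟩ : Nonempty (Sylow p (H ⧸ N)) := inferInstance
  have hcardQ : Nat.card (H ⧸ N) = p * k := hidx
  have hPc : Nat.card P = p := by
    have hk0 : k ≠ 0 := by rintro rfl; exact hkp (dvd_zero _)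
    rw [P.card_eq_multiplicity, hcardQ, Nat.factorization_mul h.prime.ne_zero hk0,
      Finsupp.add_apply, Nat.factorization_eq_zero_of_not_dvd hkp, add_zero,
      h.prime.factorization_self, pow_one]
  have hn1 : Nat.card (Sylow p (H ⧸ N)) = 1 := by
    apply hk _ _ (card_sylow_modEq_one p _)
    have h2 : Nat.card (Sylow p (H ⧸ N)) ∣ (P : Subgroup (H ⧸ N)).index :=
      P.card_dvd_index
    have h3 := (P : Subgroup (H ⧸ N)).card_mul_index
    rw [hPc, hcardQ] at h3
    rwa [Nat.eq_of_mul_eq_mul_left h.prime.pos h3] at h2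
  have hPn : (P : Subgroup (H ⧸ N)).Normal := by
    have h4 : Subsingleton (Sylow p (H ⧸ N)) := (Nat.card_eq_one_iff_unique.1 hn1).1
    exact P.normal_of_subsingleton
  -- the preimage
  set M := (P : Subgroup (H ⧸ N)).comap (QuotientGroup.mk' N) with hM
  have hMn : M.Normal := hPn.comap _
  have hNM : N ≤ M := by
    intro y hy
    rw [hM, Subgroup.mem_comap]
    have : (QuotientGroup.mk' N) y = 1 := (QuotientGroup.eq_one_iff y).2 hy
    rw [this]
    exact one_mem _
  have hMc : Nat.card M = Nat.card N * p := by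
    have h5 : M.index = (P : Subgroup (H ⧸ N)).index :=
      Subgroup.index_comap_of_surjective _ (QuotientGroup.mk'_surjective N)
    have h6 := M.card_mul_index
    have h7 := (P : Subgroup (H ⧸ N)).card_mul_index
    rw [hPc, hcardQ] at h7
    have h8 : (P : Subgroup (H ⧸ N)).index = k := Nat.eq_of_mul_eq_mul_left h.prime.pos h7
    rw [h5, h8, h.card, ← hNm] at h6
    have hk0 : 0 < k := Nat.pos_of_ne_zero (by rintro rfl; exact hkp (dvd_zero _))
    apply Nat.eq_of_mul_eq_mul_right hk0
    rw [h6]; ring
  -- Sylow subgroups of H lie in M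
  obtain ⟨R⟩ : Nonempty (Sylow p M) := inferInstance
  have hpM : ¬ p ∣ Nat.card N := fun hd => h.ndvd (hNm ▸ Dvd.dvd.mul_right hd _)
  have hRc : Nat.card R = p := by
    have hN0 : Nat.card N ≠ 0 := Nat.card_pos.ne'
    rw [R.card_eq_multiplicity, hMc, Nat.factorization_mul hN0 h.prime.ne_zero,
      Finsupp.add_apply, Nat.factorization_eq_zero_of_not_dvd hpM, zero_add,
      h.prime.factorization_self, pow_one]
  have hle : Nat.card (Sylow p M) ∣ Nat.card N := by
    have h2 : Nat.card (Sylow p M) ∣ (R : Subgroup M).index := R.card_dvd_index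
    have h3 := (R : Subgroup M).card_mul_index
    rw [hRc, hMc, mul_comm (Nat.card N)] at h3
    rwa [Nat.eq_of_mul_eq_mul_left h.prime.pos h3] at h2
  have heq : Nat.card (Sylow p H) ≤ Nat.card (Sylow p M) := by
    have hall : ∀ Q : Sylow p H, (Q : Subgroup H) ≤ M := by
      intro Q
      have h9 : IsPGroup p ((Q : Subgroup H).map (QuotientGroup.mk' N)) := Q.isPGroup'.map _
      obtain ⟨P', hP'⟩ := h9.exists_le_sylow
      have h10 : P' = P := by
        have h4 : Subsingleton (Sylow p (H ⧸ N)) := (Nat.card_eq_one_iff_unique.1 hn1).1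
        exact Subsingleton.elim _ _
      rw [h10] at hP'
      rw [hM, ← Subgroup.map_le_iff_le_comap]
      exact hP'
    exact Nat.card_le_card_of_injective (fun Q : Sylow p H => Q.subtype (hall Q))
      fun Q Q' hQ => Sylow.subtype_injective hQ
  exact heq.trans (Nat.le_of_dvd Nat.card_pos hle)

end Sit

end Cfsg.Agent.H361.SelfCent
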